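import Mathlib

set_option autoImplicit false

/-! # Bounded quantifiers as Boolean loops, for kernel computations -/

namespace Cfsg.Agent.Lib.Helper7.TitsC

/-- bounded universal quantifier as a Boolean -/
def allN (n : ℕ) (f : ℕ → Bool) : Bool := Nat.rec true (fun k ih => ih && f k) n

theorem allN_succ (n : ℕ) (f : ℕ → Bool) : allN (n + 1) f = (allN n f && f n) := rfl

theorem allN_spec (n : ℕ) (f : ℕ → Bool) (h : allN n f = true) : ∀ k < n, f k = true := by
  induction n with
  | zero => intro k hk; omega
  | succ n ih =>
    rw [allN_succ, Bool.and_eq_true] at h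
    intro k hk
    rcases Nat.lt_succ_iff_lt_or_eq.mp hk with hk | rfl
    · exact ih h.1 k hk
    · exact h.2

/-- evaluate the first argument before it is used (for kernel computations) -/
def force {α : Type} (c : ℕ) (F : ℕ → α) : α := Nat.rec (F 0) (fun k _ => F (k + 1)) c

theorem force_eq {α : Type} (c : ℕ) (F : ℕ → α) : force c F = F c := by
  cases c <;> rfl

/-- bounded universal quantifier over `a * b` numbers, as a double loop -/
def allN2 (a b : ℕ) (f : ℕ → Bool) : Bool :=
  allN a (fun i => allN b (fun j => f (b * i + j)))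

theorem allN2_spec (a b : ℕ) (f : ℕ → Bool) (h : allN2 a b f = true) :
    ∀ k < a * b, f k = true := by
  intro k hk
  rcases Nat.eq_zero_or_pos b with rfl | hb
  · omega
  have h1 : k / b < a := by
    rw [Nat.div_lt_iff_lt_mul hb]
    exact hk
  have h2 := allN_spec _ _ (allN_spec _ _ h (k / b) h1) (k % b) (Nat.mod_lt _ hb)
  have e : b * (k / b) + k % b = k := Nat.div_add_mod k b
  rw [e] at h2
  exact h2

end Cfsg.Agent.Lib.Helper7.TitsC
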